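/-
Kernel checks for the elementary subgroup of order 16, Basic.
-/
import Cfsg.Agent.Lib.Co3Recog.DefsA

set_option autoImplicit false
set_option maxRecDepth 200000
set_option maxHeartbeats 4000000

namespace CfsgLib.Co3Recog.Data

open CfsgPC Base

theorem a_perm : permsB 339 aElems aElems = true ∧ aElems.length = 16 ∧ permsB 339 dGens dInv = true ∧
    permsB 339 dBoth dBothInv = true ∧ permsB 339 dTwo dTwoInv = true ∧
    dGens.length = 4 := by decide +kernel

theorem a_sift : siftsB 339 xChain aElems = true ∧ siftsB 339 pChain aElems = true ∧ siftsB 339 xChain dBoth = true ∧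
    siftsB 339 xChain dTwo = true ∧ siftsB 339 pChain dZero = true := by decide +kernel

theorem a_law : aMulB = true ∧ eqB xBases (ap (ac 0)) id = true ∧ eqB xBases (ap (ac 1)) (ap zC.1) = true ∧
    eqB xBases (ap (ac 2)) (ap sC.1) = true ∧
    ((List.range 16).all fun m => (List.range m).all fun k => !eqB xBases (ap (ac m)) (ap (ac k))) = true ∧
    ((List.range 16).all fun m => Nat.beq m 0 || fix36 (ap (ac m))) = true := by decide +kernel

theorem a_comm : (dBoth.all fun g => eqB xBases (fun b => ap g (ap sC.1 b)) fun b => ap sC.1 (ap g b)) = true ∧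
    (dTwo.all fun g => eqB xBases (fun b => ap g (ap sC.1 b)) (fun b => ap sC.1 (ap g b)) &&
      eqB xBases (fun b => ap g (ap (ac 4) b)) fun b => ap (ac 4) (ap g b)) = true := by decide +kernel

theorem d_table : tableB 339 dChain dGens = true ∧ sizeOfChain dChain = 4608 := by decide +kernel

theorem orb_two : distinctB xBases dGens dInv (ac 4) orbTwo = true ∧ orbTwo.length = 36 ∧
    distinctB xBases dTwo dTwoInv (ac 8) orbThree = true ∧ orbThree.length = 8 := by decide +kernel

theorem alpha_meta : (alphaTests.all fun t => ltB 6 t.1) = true ∧ dZero.length = 5 ∧ dZeroImg.length = 5 := by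
  decide +kernel

theorem der_cand : derCandB = true ∧ (derRels.all (ltB 5)) = true := by decide +kernel

end CfsgLib.Co3Recog.Data
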